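import Groth.Agent.ThetaSepLib.Locus
import Groth.Prelude.Def_ThetaS
import Groth.Agent.AlgStLib.Rows2

/-!
# Uniqueness of lifts against the unit point of the theta stack
-/

set_option autoImplicit false
set_option linter.all false
set_option synthInstance.maxHeartbeats 400000
set_option maxHeartbeats 800000
set_option backward.isDefEq.respectTransparency false
set_option backward.isDefEq.respectTransparency.types false

universe v₂ u₂ v₁ u₁ u

open CategoryTheory CategoryTheory.Limits MonoidalCategory CartesianMonoidalCategory AlgebraicGeometry Opposite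
open AlgSp AlgSpLib FibCat LiftAffLib
open scoped Polynomial

noncomputable section

namespace ThetaSepLib

local notation "𝕜" => Scheme.fppfPrecoverage

variable (R : Type u) [CommRing R]

theorem lfp_gm' : LocallyOfFinitePresentation (ThetaS.Gm R).hom := by
  haveI : Monoid.FG (Multiplicative ℤ) := Monoid.fg_iff_add_fg.mpr inferInstance
  haveI : Algebra.FinitePresentation ℤ (MonoidAlgebra ℤ (Multiplicative ℤ)) :=
    Algebra.FinitePresentation.of_finiteType.1 inferInstance
  haveI : Algebra.FinitePresentation R (ThetaS.Lau R) :=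
    Algebra.FinitePresentation.equiv (MonoidAlgebra.scalarTensorEquiv ℤ R)
  exact (HasRingHomProperty.Spec_iff (P := @LocallyOfFinitePresentation)
    (φ := CommRingCat.ofHom (algebraMap R (ThetaS.Lau R)))).2 (RingHom.finitePresentation_algebraMap.2 ‹_›)

abbrev K : Type u := Localization.Away (Polynomial.X : R[X])

/-- The punctured line as a point of the line. -/
abbrev xK : CoactBr.sp R (K R) ⟶ ThetaS.Line R :=
  CoactBr.pt (ThetaS.linePt (algebraMap R[X] (K R) Polynomial.X))

/-- The coordinate as a point of the multiplicative group. -/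
def lamK : ThetaS.Lau R →ₐ[R] K R :=
  MonoidAlgebra.lift R (K R) (Multiplicative ℤ) ((Units.coeHom (K R)).comp
    (zpowersHom (K R)ˣ (IsLocalization.Away.algebraMap_isUnit (Polynomial.X : R[X]) (S := K R)).unit))

theorem lamK_z : lamK R (ThetaS.zPow R 1) = algebraMap R[X] (K R) Polynomial.X := by
  simp [lamK]

theorem injective_linePt_X : Function.Injective (ThetaS.linePt (R := R) (algebraMap R[X] (K R) Polynomial.X)) := by
  have : ThetaS.linePt (R := R) (algebraMap R[X] (K R) Polynomial.X) = IsScalarTower.toAlgHom R R[X] (K R) :=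
    Polynomial.algHom_ext (by simp)
  rw [this]
  refine IsLocalization.injective (K R) (M := Submonoid.powers (Polynomial.X : R[X])) ?_
  rintro _ ⟨n, rfl⟩
  exact (isRegular_iff_mem_nonZeroDivisors.1 ((Polynomial.monic_X (R := R)).isRegular.pow n))

variable {R}

/-- A closed subscheme of the line containing the punctured line is everything. -/
theorem isIso_of_fac {Z : Scheme.{u}} (i : Z ⟶ (ThetaS.Line R).left) [IsClosedImmersion i]
    (g : (CoactBr.sp R (K R)).left ⟶ Z) (hg : g ≫ i = (xK R).left) : IsIso i := by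
  haveI : IsAffine (ThetaS.Line R).left := inferInstanceAs (IsAffine (Spec _))
  refine IsClosedImmersion.isIso_of_injective_of_isAffine fun p q hpq => ?_
  obtain ⟨p, rfl⟩ := (Scheme.ΓSpecIso (CommRingCat.of R[X])).symm.commRingCatIsoToRingEquiv.surjective p
  obtain ⟨q, rfl⟩ := (Scheme.ΓSpecIso (CommRingCat.of R[X])).symm.commRingCatIsoToRingEquiv.surjective q
  congr 1
  apply injective_linePt_X R
  apply (Scheme.ΓSpecIso (CommRingCat.of (K R))).symm.commRingCatIsoToRingEquiv.injective
  change (Scheme.ΓSpecIso _).inv _ = (Scheme.ΓSpecIso _).inv _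
  rw [← pt_appTop, ← pt_appTop]
  have e := congrArg g.appTop hpq
  rw [← CommRingCat.comp_apply, ← CommRingCat.comp_apply, ← Scheme.Hom.comp_appTop, hg] at e
  exact e

variable (R)

/-- The structure map of the punctured line. -/
abbrev toPt : CoactBr.sp R (K R) ⟶ Over.mk (𝟙 (Spec (CommRingCat.of R))) :=
  Over.homMk (CoactBr.sp R (K R)).hom (Category.comp_id _)

theorem toPt_one : (toPt R ≫ Over.homMk (U := Over.mk (𝟙 (Spec (CommRingCat.of R)))) (V := ThetaS.Line R)
      (𝟙 _ ≫ ThetaS.onePt R) (by rw [Category.assoc, ThetaS.onePt_hom]; exact Category.comp_id _)) =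
    CoactBr.pt (ThetaS.linePt (1 : K R)) := by
  have : ThetaS.linePt (1 : K R) = (Algebra.ofId R (K R)).comp (ThetaS.lineOne R) :=
    Polynomial.algHom_ext (by simp)
  rw [this, CoactBr.pt_comp]
  apply Over.OverMorphism.ext
  rw [Over.comp_left, Over.comp_left]
  change (CoactBr.sp R (K R)).hom ≫ 𝟙 _ ≫ ThetaS.onePt R = _
  rw [Category.id_comp]
  rfl

variable {S : Scheme.{u}} {𝒳 : BasedCategory.{v₁, u₁} (Over S)} {𝒴 : BasedCategory.{v₂, u₂} (Over S)}
  [IsFibGrpd 𝒳.p] [IsFibGrpd 𝒴.p] {f : 𝒳 ⥤ᵇ 𝒴} [f.toFunctor.Faithful]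

/-- Two compatible families of lifts on the theta stack agreeing at the unit point are equal. -/
theorem families_eq (hd : AlgSt.RepByAlgSpWith (AlgSp.RepWith @IsClosedImmersion) (diag f))
    (h : Spec (CommRingCat.of R) ⟶ S) (bot : ThetaS.Theta 𝕜 R h ⥤ᵇ 𝒴) (c c' : ∀ A, Sec f (bot.obj A))
    (hc : ∀ A B (k : A ⟶ B), secRes f (bot.map k) (c B) = c A)
    (hc' : ∀ A B (k : A ⟶ B), secRes f (bot.map k) (c' B) = c' A)
    (h1 : ∀ o, c ((ThetaS.thetaOne 𝕜 R h).obj o) = c' ((ThetaS.thetaOne 𝕜 R h).obj o)) : c = c' := by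
  haveI := affine_gm R
  haveI := flat_gm R
  haveI := lfp_gm' R
  haveI : IsAffine (ThetaS.Line R).left := inferInstanceAs (IsAffine (Spec _))
  have hloc : ∀ A : AlgSt.QuotObj 𝕜 (ThetaS.Gm R) (ThetaS.lineAction R),
      ∃ (Z : Scheme.{u}) (i : Z ⟶ A.base.left), IsClosedImmersion i ∧
        ∀ A' (k : A' ⟶ A), c A' = c' A' ↔ ∃ g, g ≫ i = k.base.left := by
    intro A
    obtain ⟨Z, i, hi, hu⟩ := exists_eqLocus hd (c A) (c' A)
    let eA : 𝒴.p.obj (bot.obj A) = (Over.map h).obj A.base := bot.w_obj A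
    haveI := hi
    haveI : IsIso (eqToHom eA).left := inferInstanceAs (IsIso ((Over.forget S).map (eqToHom eA)))
    refine ⟨Z.left, i.left ≫ (eqToHom eA).left, inferInstance, fun A' k => ?_⟩
    have hb : 𝒴.p.map (bot.map k) =
        eqToHom (bot.w_obj A') ≫ (Over.map h).map k.base ≫ eqToHom (bot.w_obj A).symm := map_base bot k
    rw [← hc A' A k, ← hc' A' A k, hu _ (bot.map k)]
    haveI : IsIso (eqToHom (bot.w_obj A')).left :=
      inferInstanceAs (IsIso ((Over.forget S).map (eqToHom (bot.w_obj A'))))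
    constructor
    · rintro ⟨g, hg⟩
      refine ⟨(eqToHom (bot.w_obj A').symm).left ≫ g.left, ?_⟩
      have := congrArg (fun r => ((eqToHom (bot.w_obj A').symm) ≫ r ≫ eqToHom eA).left) (hg.trans hb)
      simpa using this
    · rintro ⟨g, hg⟩
      let g' : (Over.map h).obj A'.base ⟶ Z := Over.homMk g (by
        have := congrArg (· ≫ ((Over.map h).obj A.base).hom) hg
        simp only [Category.assoc, Over.w] at this ⊢
        exact this.trans (Over.w ((Over.map h).map k.base)))
      refine ⟨eqToHom (bot.w_obj A') ≫ g', ?_⟩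
      rw [hb, ← cancel_mono (eqToHom eA)]
      apply Over.OverMorphism.ext
      simp only [Over.comp_left, Over.homMk_left, g', Category.assoc]
      erw [hg, ← Over.comp_left, eqToHom_trans, eqToHom_refl]
      simp
  have down : ∀ {A B : AlgSt.QuotObj 𝕜 (ThetaS.Gm R) (ThetaS.lineAction R)}, (A ⟶ B) → c B = c' B → c A = c' A :=
    fun {A B} k e => ((hc A B k).symm.trans (congrArg (secRes f (bot.map k)) e)).trans (hc' A B k)
  let x₁ : Over.mk (𝟙 (Spec (CommRingCat.of R))) ⟶ ThetaS.Line R :=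
    Over.homMk (𝟙 _ ≫ ThetaS.onePt R) (by rw [Category.assoc, ThetaS.onePt_hom]; exact Category.comp_id _)
  have eB : c (tr (ThetaS.lineAction R) x₁) = c' (tr (ThetaS.lineAction R) x₁) := h1 (Over.mk (𝟙 _))
  let k₁ : tr (ThetaS.lineAction R) (xK R) ⟶ tr (ThetaS.lineAction R) x₁ :=
    hom _ (lift (CoactBr.pt (lamK R)) (toPt R)) (xK R) (by
      change lift _ _ ≫ (_ ◁ x₁) ≫ (ThetaS.lineAction R).act = _
      rw [← Category.assoc, QuotStLib.lift_whisker, toPt_one, ThetaS.lineAction_pt, mul_one, lamK_z])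
  have e₀ : c (u₀ (ThetaS.lineAction R)) = c' (u₀ (ThetaS.lineAction R)) := by
    obtain ⟨Z, i, hi, hu⟩ := hloc (u₀ (ThetaS.lineAction R))
    haveI := hi
    obtain ⟨g, hg⟩ := (hu _ (can (xK R))).1 (down k₁ eB)
    rw [base_tmap] at hg
    haveI := isIso_of_fac i g hg
    exact (hu _ (𝟙 _)).2 ⟨inv i, by simp⟩
  funext A
  obtain ⟨Z, i, hi, hu⟩ := hloc A
  haveI := hi
  obtain ⟨g, hg⟩ := (hu _ (taut A)).1 (down (can A.φ) e₀)
  change g ≫ i = (𝟙 A.P ≫ A.π).left at hg
  rw [Category.id_comp] at hg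
  let Z' : Over (Spec (CommRingCat.of R)) := Over.mk (i ≫ A.base.hom)
  let i' : Z' ⟶ A.base := Over.homMk i rfl
  haveI : Mono i' := (Over.forget _).mono_of_mono_map (inferInstanceAs (Mono i))
  let g' : A.P ⟶ Z' := Over.homMk g (by
    change g ≫ i ≫ A.base.hom = A.P.hom
    rw [← Category.assoc, hg, Over.w A.π])
  have hg' : g' ≫ i' = A.π := Over.OverMorphism.ext hg
  haveI := epi_π A
  obtain ⟨r, hr⟩ := exists_desc ((yon _).map A.π) ((yon _).map g') fun T p p' e => by
    rw [← cancel_mono ((yon _).map i'), Category.assoc, Category.assoc, ← Functor.map_comp, hg']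
    exact e
  obtain ⟨r, rfl⟩ := (yon _).map_surjective r
  have hri : r ≫ i' = 𝟙 _ := by
    refine (yon _).map_injective ((cancel_epi ((yon _).map A.π)).1 ?_)
    rw [Functor.map_comp, reassoc_of% hr, ← Functor.map_comp, hg']
    simp
  exact (hu A (𝟙 A)).2 ⟨r.left, by simpa [i'] using congrArg (fun r => r.left) hri⟩

/-- A representable separated functor has unique lifts against the unit point. -/
theorem liftsUnique_thetaOne (hd : AlgSt.RepByAlgSpWith (AlgSp.RepWith @IsClosedImmersion) (diag f))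
    (h : Spec (CommRingCat.of R) ⟶ S) : LiftSq.LiftsUnique (ThetaS.thetaOne 𝕜 R h) f := by
  intro sq d d'
  let s : ∀ (e : sq.Lift) b, SecObj f (sq.bot.obj b) := fun e b =>
    ⟨e.fn.obj b, e.isoBot.hom.toNatTrans.app b, _, (nat_base e.isoBot.hom b).choose_spec⟩
  have hw : ∀ (e : sq.Lift) a,
      e.isoBot.hom.toNatTrans.app ((ThetaS.thetaOne 𝕜 R h).obj a) ≫ f.map (e.isoTop.hom.toNatTrans.app a) =
        sq.iso.hom.toNatTrans.app a := fun e a =>
    congrArg (fun α : BasedFunctor.comp (ThetaS.thetaOne 𝕜 R h) sq.bot ⟶ BasedFunctor.comp sq.top f =>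
      α.toNatTrans.app a) e.w
  have hfam : ∀ (e : sq.Lift) A B (k : A ⟶ B), secRes f (sq.bot.map k) (s e B).cls = (s e A).cls := fun e A B k =>
    secRes_cls_iff.2 ⟨e.fn.map k, (e.isoBot.hom.toNatTrans.naturality k).symm⟩
  have heq := families_eq R hd h sq.bot (fun A => (s d A).cls) (fun A => (s d' A).cls) (hfam d) (hfam d')
    fun o => by
      let τ : SecObj f (sq.bot.obj ((ThetaS.thetaOne 𝕜 R h).obj o)) :=
        ⟨sq.top.obj o, sq.iso.hom.toNatTrans.app o, _, (nat_base sq.iso.hom o).choose_spec⟩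
      exact ((cls_eq_iff (b := τ)).2 ⟨d.isoTop.hom.toNatTrans.app o, (hw d o).trans (Category.id_comp _).symm⟩).trans
        ((cls_eq_iff (b := τ)).2 ⟨d'.isoTop.hom.toNatTrans.app o, (hw d' o).trans (Category.id_comp _).symm⟩).symm
  have hθ : ∀ b, ∃ θ : (s d b).x ⟶ (s d' b).x, (s d b).hom ≫ f.map θ = (s d' b).hom := fun b => by
    obtain ⟨θ, e⟩ := cls_eq_iff.1 (congrFun heq b)
    exact ⟨θ, e.trans (Category.id_comp _)⟩
  choose θ hθ using hθ
  haveI : ∀ b, IsIso (s d b).hom := fun b => by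
    haveI : IsIso (𝒴.p.map (s d b).hom) := by rw [(s d b).base]; infer_instance
    exact isIso_of_map 𝒴.p _
  let Θ : d.fn ⟶ d'.fn :=
    { toNatTrans :=
        { app := θ
          naturality := fun b b' k => f.toFunctor.map_injective (by
            rw [← cancel_epi (s d b).hom, f.toFunctor.map_comp, f.toFunctor.map_comp,
              reassoc_of% (hθ b)]
            have n1 : (s d b).hom ≫ f.map (d.fn.map k) = sq.bot.map k ≫ (s d b').hom :=
              (d.isoBot.hom.toNatTrans.naturality k).symm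
            have n2 : (s d' b).hom ≫ f.map (d'.fn.map k) = sq.bot.map k ≫ (s d' b').hom :=
              (d'.isoBot.hom.toNatTrans.naturality k).symm
            rw [reassoc_of% n1, hθ b', n2]) }
      isHomLift' := fun b => by
        obtain ⟨h, e⟩ := base_of_vert (a := s d b) (b := s d' b) (θ b) (hθ b)
        exact isHomLift_of_base _ (d.fn.w_obj b) h e }
  have htop : BasedCategory.whiskerLeft (ThetaS.thetaOne 𝕜 R h) Θ ≫ d'.isoTop.hom = d.isoTop.hom := by
    apply BasedNatTrans.homCategory.ext; ext a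
    refine f.toFunctor.map_injective ?_
    rw [← cancel_epi (s d ((ThetaS.thetaOne 𝕜 R h).obj a)).hom]
    change (s d _).hom ≫ f.map (θ _ ≫ d'.isoTop.hom.toNatTrans.app a) = _
    rw [f.toFunctor.map_comp, reassoc_of% (hθ _)]
    exact (hw d' a).trans (hw d a).symm
  have hbot : d.isoBot.hom ≫ BasedCategory.whiskerRight Θ f = d'.isoBot.hom := by
    apply BasedNatTrans.homCategory.ext; ext b
    exact hθ b
  refine ⟨⟨⟨⟨Θ, htop, hbot⟩⟩, fun φ => ?_⟩⟩
  apply LiftSq.Sq.Lift.hom_ext
  apply BasedNatTrans.homCategory.ext; ext b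
  refine f.toFunctor.map_injective ?_
  rw [← cancel_epi (s d b).hom]
  exact (congrArg (fun α : sq.bot ⟶ BasedFunctor.comp d'.fn f => α.toNatTrans.app b) φ.w_bot).trans (hθ b).symm

end ThetaSepLib
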