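import Groth.Agent.LiftAffLib.Theta
import Groth.Agent.AlgSpLib.MonoRep
import Groth.Agent.AlgStLib.Rows1
import Groth.Agent.FibLib.Fp

/-!
# Separated representable functors and the loci where two lifts agree
-/

set_option autoImplicit false
set_option linter.all false
set_option backward.isDefEq.respectTransparency false
set_option backward.isDefEq.respectTransparency.types false

universe v₃ u₃ v₂ u₂ v₁ u₁ u

open CategoryTheory CategoryTheory.Limits AlgebraicGeometry Opposite AlgSp FibCat FibLib AlgSpLib AlgStLib LiftAffLib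
open CategoryTheory.Functor (IsPreFibered)

noncomputable section

namespace ThetaSepLib

variable {S : Scheme.{u}} {𝒳 : BasedCategory.{v₁, u₁} (Over S)} {𝒴 : BasedCategory.{v₂, u₂} (Over S)}
  [IsFibGrpd 𝒳.p] [IsFibGrpd 𝒴.p]

/-- The fibre product along a point of the base has a terminal object, a closed immersion over the point's scheme. -/
theorem exists_terminal_fp {f : 𝒳 ⥤ᵇ 𝒴} (hf : AlgSt.RepByAlgSpWith (AlgSp.RepWith @IsClosedImmersion) f)
    {T : Over S} (v : AlgSt.ofSch T ⥤ᵇ 𝒴) :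
    ∃ η₀ : (fp v f).obj, IsClosedImmersion η₀.obj.fst.sec.down.left ∧
      ∀ η : (fp v f).obj, ∃! _m : η ⟶ η₀, True := by
  obtain ⟨H, a, -, ⟨e, he, ⟨β⟩⟩, ha⟩ := (repByAlgSpWith_iff _ f).mp hf T v
  have sq := IsPullback.of_hasPullback a (𝟙 ((yon S).obj T))
  obtain ⟨Z, q, g₁, sq⟩ := (ha.1 (𝟙 ((yon S).obj T)))
  haveI : IsIso g₁ := sq.isIso_fst_of_isIso
  haveI haff : IsClosedImmersion q.left := ha.2 (𝟙 _) g₁ q sq
  let i : (yon S).obj Z ≅ H := asIso g₁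
  let z₀ : (AlgSt.ofSp H).obj := ⟨Z, yEq i.hom⟩
  refine ⟨e.obj z₀, ?_, fun η => ?_⟩
  · let φ : (e.obj z₀).obj.fst ⟶ (Stk.ofPshMap a.hom).obj z₀ := β.hom.toNatTrans.app z₀
    haveI : IsIso φ.hom :=
      ⟨⟨(β.inv.toNatTrans.app z₀).hom,
        congrArg Stk.EltObj.Hom.hom (natApp_congr β.hom_inv_id z₀),
        congrArg Stk.EltObj.Hom.hom (natApp_congr β.inv_hom_id z₀)⟩⟩
    have h1 : φ.hom ≫ q = (e.obj z₀).obj.fst.sec.down := by
      have hq : a.hom.app (op Z) (yEq i.hom) = ULift.up q := by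
        rw [← yEq_comp]
        change yEq (g₁ ≫ a) = _
        rw [sq.w, Category.comp_id]
        rfl
      have := φ.map_sec
      change ULift.up (φ.hom ≫ (a.hom.app (op Z) (yEq i.hom)).down) = _ at this
      rw [hq] at this
      exact congrArg ULift.down this
    rw [← h1, Over.comp_left]
    haveI : IsIso φ.hom.left := inferInstanceAs (IsIso ((Over.forget S).map φ.hom))
    exact (MorphismProperty.cancel_left_of_respectsIso @IsClosedImmersion φ.hom.left q.left).2 haff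
  · haveI := isEquivalence_of_isEquivOver he
    let z := e.toFunctor.objPreimage η
    let k : e.obj z ≅ η := e.toFunctor.objObjPreimageIso η
    obtain ⟨m, -, hm⟩ := exists_terminal i z
    refine ⟨k.inv ≫ e.map m, trivial, fun m' _ => ?_⟩
    obtain ⟨n, hn⟩ := e.toFunctor.map_surjective (k.hom ≫ m')
    rw [← hm n trivial, hn, Iso.inv_hom_id_assoc]

variable {ℬ : BasedCategory.{v₃, u₃} (Over S)} [IsFibGrpd ℬ.p]

/-- For every object of the source there is a universal lift of its pullbacks, over a scheme a closed immersion over its base. -/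
theorem exists_repr {f : 𝒳 ⥤ᵇ 𝒴} (hf : AlgSt.RepByAlgSpWith (AlgSp.RepWith @IsClosedImmersion) f)
    (bot : ℬ ⥤ᵇ 𝒴) (b : ℬ.obj) :
    ∃ (bZ : ℬ.obj) (φZ : bZ ⟶ b) (s : Sec f (bot.obj bZ)), IsClosedImmersion (ℬ.p.map φZ).left ∧
      ∀ (b' : ℬ.obj) (φ : b' ⟶ b) (t : Sec f (bot.obj b')),
        ∃! χ : b' ⟶ bZ, χ ≫ φZ = φ ∧ secRes f (bot.map χ) s = t := by
  let T := ℬ.p.obj b
  let fb : ℬ.p.Fiber T := ⟨b, rfl⟩
  let v : AlgSt.ofSch T ⥤ᵇ ℬ := BasedFunctor.comp (AlgSt.toOverCat T) (ofPoint fb)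
  let π : ∀ o : (AlgSt.ofSch T).obj, v.obj o ⟶ b := fun o => IsPreFibered.pullbackMap fb.2 o.sec.down
  have hπp : ∀ o, ℬ.p.map (π o) = eqToHom (v.w_obj o) ≫ o.sec.down := fun o => by
    haveI : ℬ.p.IsHomLift o.sec.down (π o) :=
      inferInstanceAs (ℬ.p.IsHomLift o.sec.down (IsPreFibered.pullbackMap fb.2 o.sec.down))
    rw [IsHomLift.fac' ℬ.p o.sec.down (π o)]
    simp
  have hπn : ∀ {o o' : (AlgSt.ofSch T).obj} (h : o ⟶ o'), v.map h ≫ π o' = π o := fun h =>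
    pbMap_fac fb h.hom (congrArg ULift.down h.map_sec)
  obtain ⟨η₀, haff, huniv⟩ := exists_terminal_fp hf (BasedFunctor.comp v bot)
  have hbase₀ : ∃ h, 𝒴.p.map η₀.obj.iso.hom = eqToHom h := by
    have hp : 𝒴.p.IsHomLift (𝟙 ((AlgSt.ofSch T).p.obj η₀.obj.fst)) η₀.obj.iso.hom := η₀.property
    refine ⟨((BasedFunctor.comp v bot).w_obj η₀.obj.fst).trans
      (@IsHomLift.codomain_eq _ _ _ _ 𝒴.p _ _ _ _ _ _ hp).symm, ?_⟩
    rw [@IsHomLift.fac' _ _ _ _ 𝒴.p _ _ _ _ _ _ hp]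
    simp
  let σ₀ : SecObj f (bot.obj (v.obj η₀.obj.fst)) := ⟨η₀.obj.snd, η₀.obj.iso.hom, _, hbase₀.choose_spec⟩
  refine ⟨v.obj η₀.obj.fst, π η₀.obj.fst, σ₀.cls, ?_, fun b' φ t => ?_⟩
  · rw [hπp, Over.comp_left]
    haveI : IsIso (eqToHom (v.w_obj η₀.obj.fst)).left :=
      inferInstanceAs (IsIso ((Over.forget S).map _))
    exact (MorphismProperty.cancel_left_of_respectsIso @IsClosedImmersion _ _).2 haff
  obtain ⟨σ, rfl⟩ := cls_surjective t
  let o : (AlgSt.ofSch T).obj := ⟨ℬ.p.obj b', ⟨ℬ.p.map φ⟩⟩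
  obtain ⟨κ, hκ, hκ'⟩ := exists_fac ℬ.p φ (π o) (eqToHom (v.w_obj o).symm) (by simp [hπp, o])
  haveI : IsIso κ := by
    haveI : IsIso (ℬ.p.map κ) := by rw [hκ]; infer_instance
    exact isIso_of_map ℬ.p κ
  let ε : (BasedFunctor.comp v bot).obj o ≅ f.obj σ.x := asIso (inv (bot.map κ) ≫ σ.hom)
  have hε : ∃ h, 𝒴.p.map ε.hom = eqToHom h := by
    refine ⟨((BasedFunctor.comp v bot).w_obj o).trans ((bot.w_obj b').symm.trans σ.eq), ?_⟩
    simp [ε, map_base bot, hκ, σ.base]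
  let η : (fp (BasedFunctor.comp v bot) f).obj := fpObj o σ.x ε
    (isHomLift_of_base (T := 𝒴) ε.hom ((BasedFunctor.comp v bot).w_obj o) _ hε.choose_spec)
  obtain ⟨m, -, hm⟩ := huniv η
  refine ⟨κ ≫ v.map m.hom.fst, ⟨by rw [Category.assoc, hπn, ← hκ'], ?_⟩, ?_⟩
  · refine secRes_cls_iff.2 ⟨m.hom.snd, ?_⟩
    have w : bot.map (v.map m.hom.fst) ≫ η₀.obj.iso.hom = (inv (bot.map κ) ≫ σ.hom) ≫ f.map m.hom.snd := m.hom.w
    rw [bot.toFunctor.map_comp, Category.assoc]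
    change _ = _ ≫ _ ≫ η₀.obj.iso.hom
    rw [w]; simp
  · rintro χ ⟨hχ, hres⟩
    obtain ⟨ψ, hψ⟩ := secRes_cls_iff.1 hres
    let h : o.base ⟶ η₀.obj.fst.base := ℬ.p.map χ ≫ eqToHom (v.w_obj η₀.obj.fst)
    have hsec : h ≫ η₀.obj.fst.sec.down = o.sec.down := by
      simp only [h, o, Category.assoc]
      rw [← hπp, ← Functor.map_comp, hχ]
    let h' : o ⟶ η₀.obj.fst := ⟨h, congrArg ULift.up hsec⟩
    have hv : χ = κ ≫ v.map h' := by
      refine hom_ext' ℬ.p (π η₀.obj.fst) _ _ ?_ ?_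
      · rw [Functor.map_comp, hκ, map_base v h']
        change _ = _ ≫ _ ≫ h ≫ _
        simp [h]
      · rw [Category.assoc, hπn, hχ, hκ']
    let m' : η ⟶ η₀ := fpHom h' ψ (by
      change bot.map (v.map h') ≫ η₀.obj.iso.hom = (inv (bot.map κ) ≫ σ.hom) ≫ f.map ψ
      rw [Category.assoc, IsIso.eq_inv_comp, hψ, hv, bot.toFunctor.map_comp, Category.assoc])
    rw [hv, ← hm m' trivial]
    rfl

variable (f : 𝒳 ⥤ᵇ 𝒴) [f.toFunctor.Faithful]

/-- The diagonal of a faithful functor is full. -/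
theorem exists_diag_preimage {x x' : 𝒳.obj} (μ : (diag f).obj x ⟶ (diag f).obj x') :
    ∃ ψ : x ⟶ x', (diag f).map ψ = μ := by
  refine ⟨μ.hom.fst, ?_⟩
  have hw : f.map μ.hom.fst ≫ 𝟙 _ = 𝟙 _ ≫ f.map μ.hom.snd := μ.hom.w
  rw [Category.comp_id, Category.id_comp] at hw
  apply ObjectProperty.hom_ext
  apply CategoricalPullback.hom_ext
  · rfl
  · exact f.toFunctor.map_injective hw

/-- A proper diagonal of a faithful functor is a closed immersion. -/
theorem diag_closed (h : AlgSt.RepByAlgSpWith AlgSp.IsProperMor (diag f)) :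
    AlgSt.RepByAlgSpWith (AlgSp.RepWith @IsClosedImmersion) (diag f) := by
  haveI : IsFibGrpd (fp f f).p := isFibGrpd_fp
  refine (repByAlgSpWith_iff _ _).mpr fun T v => ?_
  obtain ⟨H, a, hH, ⟨e, he, ⟨β⟩⟩, hp⟩ := (repByAlgSpWith_iff _ _).mp h T v
  haveI := isEquivalence_of_isEquivOver he
  have inj : ∀ (U : Over S) (q q' : H.obj.obj (op U)), a.hom.app (op U) q = a.hom.app (op U) q' → q = q' := by
    intro U q q' hqq
    let z : (AlgSt.ofSp H).obj := ⟨U, q⟩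
    let z' : (AlgSt.ofSp H).obj := ⟨U, q'⟩
    have hz : (Stk.ofPshMap a.hom).obj z = (Stk.ofPshMap a.hom).obj z' := by
      change (⟨U, a.hom.app (op U) q⟩ : (AlgSt.ofSch T).obj) = ⟨U, a.hom.app (op U) q'⟩
      rw [hqq]
    let α : (e.obj z).obj.fst ⟶ (e.obj z').obj.fst :=
      β.hom.toNatTrans.app z ≫ eqToHom hz ≫ β.inv.toNatTrans.app z'
    obtain ⟨h1, e1⟩ := nat_base β.hom z
    obtain ⟨h2, e2⟩ := nat_base β.inv z'
    have hα : ∃ k, (AlgSt.ofSch T).p.map α = eqToHom k := by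
      refine ⟨h1.trans ((congrArg (AlgSt.ofSch T).p.obj hz).trans h2), ?_⟩
      simp only [α, Functor.map_comp, eqToHom_map]
      erw [e1, e2]
      exact (congrArg (eqToHom h1 ≫ ·) (eqToHom_trans _ _)).trans (eqToHom_trans _ _)
    obtain ⟨k, hk⟩ := hα
    obtain ⟨ψ, hψ⟩ := exists_diag_preimage f
      ((e.obj z).obj.iso.inv ≫ v.map α ≫ (e.obj z').obj.iso.hom)
    let m : e.obj z ⟶ e.obj z' := fpHom α ψ (by rw [hψ, Iso.hom_inv_id_assoc])
    obtain ⟨n, hn⟩ := e.toFunctor.map_surjective m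
    have hb := map_base e n
    have hm : (fp v (diag f)).p.map (e.map n) = eqToHom k := by rw [hn]; exact hk
    rw [hm] at hb
    have hn1 : n.hom = 𝟙 U := by
      have : eqToHom (e.w_obj z).symm ≫ eqToHom k ≫ eqToHom (e.w_obj z') = n.hom := by
        rw [hb]; simp
      rw [← this, eqToHom_trans, eqToHom_trans]
      rfl
    have := n.map_sec
    rw [hn1] at this
    exact ((ConcreteCategory.congr_hom (H.obj.map_id (op U)) q').symm.trans this).symm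
  haveI : Mono a := ⟨fun {F} u w huw => by
    ext U q
    exact inj U.unop _ _ (congrArg (fun r : F ⟶ _ => r.hom.app U q) huw)⟩
  exact ⟨H, a, hH, ⟨e, he, ⟨β⟩⟩,
    closedImmersion_of_univClosed_mono_lft hH (AlgSp.IsAlgSpace.yon_obj T) hp.2.1.1 hp.2.2⟩

/-- The locus where two lifts of an object agree is closed. -/
theorem exists_eqLocus {f : 𝒳 ⥤ᵇ 𝒴} [f.toFunctor.Faithful]
    (hd : AlgSt.RepByAlgSpWith (AlgSp.RepWith @IsClosedImmersion) (diag f)) {y : 𝒴.obj} (σ σ' : Sec f y) :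
    ∃ (Z : Over S) (i : Z ⟶ 𝒴.p.obj y), IsClosedImmersion i.left ∧
      ∀ (y' : 𝒴.obj) (k : y' ⟶ y), secRes f k σ = secRes f k σ' ↔ ∃ g, g ≫ i = 𝒴.p.map k := by
  haveI : IsFibGrpd (fp f f).p := isFibGrpd_fp
  obtain ⟨⟨x, h, eq, base⟩, rfl⟩ := cls_surjective σ
  obtain ⟨⟨x', h', eq', base'⟩, rfl⟩ := cls_surjective σ'
  let σ : SecObj f y := ⟨x, h, eq, base⟩
  let σ' : SecObj f y := ⟨x', h', eq', base'⟩
  haveI : IsIso h := by
    haveI : IsIso (𝒴.p.map h) := by rw [base]; infer_instance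
    exact isIso_of_map 𝒴.p h
  haveI : IsIso h' := by
    haveI : IsIso (𝒴.p.map h') := by rw [base']; infer_instance
    exact isIso_of_map 𝒴.p h'
  let e : f.obj x ≅ f.obj x' := (asIso h).symm ≪≫ asIso h'
  have he : 𝒴.p.map e.hom = eqToHom (eq.symm.trans eq') := by
    simp [e, base, base']
  let η : (fp f f).obj := fpObj x x' e (isHomLift_of_base (T := 𝒴) _ (f.w_obj x) _ he)
  have hη : 𝒳.p.obj x = 𝒴.p.obj y := (f.w_obj x).symm.trans eq.symm
  obtain ⟨bZ, φ, s, hc, huniv⟩ := exists_repr hd (BasedFunctor.id (fp f f)) η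
  haveI := hc
  refine ⟨(fp f f).p.obj bZ, (fp f f).p.map φ ≫ eqToHom hη, ?_, fun y' k => ⟨fun hk => ?_, ?_⟩⟩
  · haveI : IsIso (eqToHom hη).left := inferInstanceAs (IsIso ((Over.forget S).map (eqToHom hη)))
    rw [Over.comp_left]
    exact (MorphismProperty.cancel_right_of_respectsIso @IsClosedImmersion _ _).2 hc
  · obtain ⟨σ₁, hσ₁⟩ := exists_rel f k σ
    obtain ⟨σ₂, hσ₂⟩ := exists_rel f k σ'
    rw [secRes_cls_iff.2 hσ₁, secRes_cls_iff.2 hσ₂] at hk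
    obtain ⟨θ, hθ⟩ := cls_eq_iff.1 hk
    rw [Category.id_comp] at hθ
    obtain ⟨a, ha⟩ := hσ₁
    obtain ⟨a', ha'⟩ := hσ₂
    haveI : IsIso σ₁.hom := inferInstance
    let m : (diag f).obj σ₁.x ⟶ η := fpHom a (θ ≫ a') (by
      change f.map a ≫ inv h ≫ h' = 𝟙 _ ≫ f.map (θ ≫ a')
      rw [← cancel_epi σ₁.hom, reassoc_of% ha, Category.id_comp, f.toFunctor.map_comp, reassoc_of% hθ, ha']
      simp [σ, σ'])
    let t : SecObj (diag f) ((diag f).obj σ₁.x) := ⟨σ₁.x, 𝟙 _, rfl, (fp f f).p.map_id _⟩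
    obtain ⟨χ, ⟨hχ, -⟩, -⟩ := huniv _ m t.cls
    have hy : 𝒴.p.obj y' = 𝒳.p.obj σ₁.x := σ₁.eq.trans (f.w_obj σ₁.x)
    refine ⟨eqToHom hy ≫ (fp f f).p.map χ, ?_⟩
    have hm : (fp f f).p.map χ ≫ (fp f f).p.map φ = 𝒳.p.map a := by
      rw [← Functor.map_comp, hχ]; rfl
    have hb := congrArg 𝒴.p.map ha
    rw [Functor.map_comp, Functor.map_comp, σ₁.base, map_base f a, σ.base] at hb
    change (eqToHom hy ≫ (fp f f).p.map χ) ≫ (fp f f).p.map φ ≫ eqToHom hη = 𝒴.p.map k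
    rw [Category.assoc]
    refine Eq.trans (congrArg (eqToHom hy ≫ ·) (((Category.assoc _ _ _).symm).trans (congrArg (· ≫ eqToHom hη) hm))) ?_
    simp only [← Category.assoc, comp_eqToHom_iff] at hb ⊢
    simpa using hb
  · rintro ⟨g, hg⟩
    obtain ⟨⟨z, hom, zeq, zbase⟩, -⟩ := cls_surjective s
    haveI : IsIso hom := by
      haveI : IsIso ((fp f f).p.map hom) := by rw [zbase]; infer_instance
      exact isIso_of_map (fp f f).p hom
    haveI : IsIso hom.hom.snd := inferInstanceAs (IsIso ((fpSnd f f).map hom))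
    let m : bZ.obj.fst ⟶ bZ.obj.snd := hom.hom.fst ≫ inv hom.hom.snd
    have hw : f.map hom.hom.fst ≫ 𝟙 _ = bZ.obj.iso.hom ≫ f.map hom.hom.snd := hom.hom.w
    rw [Category.comp_id] at hw
    have hm : f.map m = bZ.obj.iso.hom := by
      rw [f.toFunctor.map_comp, f.toFunctor.map_inv, IsIso.comp_inv_eq]
      exact hw
    have hφ : f.map φ.hom.fst ≫ inv h ≫ h' = bZ.obj.iso.hom ≫ f.map φ.hom.snd := φ.hom.w
    obtain ⟨σ₁, hσ₁⟩ := exists_rel f k σ
    rw [secRes_cls_iff.2 hσ₁, eq_comm, secRes_cls_iff]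
    obtain ⟨a, ha⟩ := hσ₁
    have hb := congrArg 𝒴.p.map ha
    rw [Functor.map_comp, Functor.map_comp, σ₁.base, map_base f a, σ.base] at hb
    have hy : 𝒳.p.obj σ₁.x = 𝒴.p.obj y' := (f.w_obj σ₁.x).symm.trans σ₁.eq.symm
    obtain ⟨χ, -, hχ⟩ := exists_fac 𝒳.p a φ.hom.fst (eqToHom hy ≫ g) (by
      have hg' : g ≫ 𝒳.p.map φ.hom.fst ≫ eqToHom hη = 𝒴.p.map k := hg
      simp only [← Category.assoc, comp_eqToHom_iff] at hb hg'
      change (eqToHom hy ≫ g) ≫ 𝒳.p.map φ.hom.fst = _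
      rw [Category.assoc, hg', ← cancel_mono (eqToHom hη), ← cancel_epi (eqToHom hy.symm)]
      rw [eqToHom_trans, eqToHom_comp_iff] at hb
      rw [hb]
      simp)
    refine ⟨χ ≫ m ≫ φ.hom.snd, ?_⟩
    rw [f.toFunctor.map_comp, f.toFunctor.map_comp, hm, ← hφ, ← Category.assoc (f.map χ),
      ← f.toFunctor.map_comp, hχ, reassoc_of% ha]
    simp [σ, σ']

end ThetaSepLib
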